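import Groth.Agent.FilteredHomology.Basic
import Groth.Agent.DRingKFlat.Tot
import Mathlib.CategoryTheory.Monoidal.Tor
import Mathlib.Algebra.Homology.HomologySequenceLemmas
import Mathlib.Algebra.Homology.HomologicalComplexAbelian
import Mathlib.RingTheory.Flat.Basic
import Mathlib.LinearAlgebra.TensorProduct.RightExactness
import Mathlib.Algebra.Category.ModuleCat.Projective

/-!
# `Tor` commutes with filtered colimits in both variables
-/

universe u

open CategoryTheory Limits MonoidalCategory HomologicalComplex
open scoped TensorProduct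

namespace Groth.Agent.HTorBC

variable {A : Type u} [CommRing A] {J : Type u} [SmallCategory J] [IsFiltered J]

theorem preserves_tensorRight (X : ModuleCat.{u} A) : PreservesColimitsOfShape J (tensorRight X) := by
  haveI : PreservesColimitsOfSize.{u, u} (tensorRight X) :=
    inferInstanceAs (PreservesColimitsOfSize.{u, u} ((DRingKFlat.tB A).flip.obj X))
  infer_instance

theorem preserves_tensorLeft (X : ModuleCat.{u} A) : PreservesColimitsOfShape J (tensorLeft X) := by
  haveI := preserves_tensorRight (J := J) X
  exact preservesColimitsOfShape_of_natIso (BraidedCategory.tensorLeftIsoTensorRight (C := ModuleCat.{u} A) X).symm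

/-- `M ↦ M ⊗ C`. -/
noncomputable def tenC (C : ChainComplex (ModuleCat.{u} A) ℕ) :
    ModuleCat.{u} A ⥤ ChainComplex (ModuleCat.{u} A) ℕ where
  obj M := ((tensorLeft M).mapHomologicalComplex (ComplexShape.down ℕ)).obj C
  map f := (NatTrans.mapHomologicalComplex ((curriedTensor (ModuleCat.{u} A)).map f) (ComplexShape.down ℕ)).app C
  map_id M := HomologicalComplex.hom_ext _ _ fun k => by
    show ((curriedTensor (ModuleCat.{u} A)).map (𝟙 M)).app (C.X k) = 𝟙 _
    rw [CategoryTheory.Functor.map_id]; rfl
  map_comp f g := HomologicalComplex.hom_ext _ _ fun k => by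
    show ((curriedTensor (ModuleCat.{u} A)).map (f ≫ g)).app (C.X k) = _
    rw [CategoryTheory.Functor.map_comp]; rfl

theorem tor_flip (p : ℕ) (N : ModuleCat.{u} A) :
    PreservesColimitsOfShape J ((CategoryTheory.Tor (ModuleCat.{u} A) p).flip.obj N) := by
  let Q := projectiveResolution N
  haveI : PreservesColimitsOfShape J (tenC Q.complex) :=
    HomologicalComplex.preservesColimitsOfShape_of_eval _ fun k =>
      have := preserves_tensorRight (J := J) (Q.complex.X k)
      preservesColimitsOfShape_of_natIso (NatIso.ofComponents (fun _ => Iso.refl _) (fun f =>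
        (Category.comp_id _).trans (Category.id_comp _).symm) :
          tensorRight (Q.complex.X k) ≅ tenC Q.complex ⋙ eval _ _ k)
  haveI := FilteredHomology.preservesColimitsOfShape_homology (R := A) (c := ComplexShape.down ℕ) (J := J) p
  refine preservesColimitsOfShape_of_natIso (NatIso.ofComponents
    (fun M => (Q.isoLeftDerivedObj (tensorLeft M) p).symm) fun {M M'} f => ?_ :
      tenC Q.complex ⋙ homologyFunctor _ _ p ≅ (CategoryTheory.Tor (ModuleCat.{u} A) p).flip.obj N)
  have h := ProjectiveResolution.leftDerived_app_eq (F := tensorLeft M) (G := tensorLeft M')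
    ((curriedTensor (ModuleCat.{u} A)).map f) Q p
  show _ = (Q.isoLeftDerivedObj (tensorLeft M) p).inv ≫
    (NatTrans.leftDerived ((curriedTensor (ModuleCat.{u} A)).map f) p).app N
  rw [h, Iso.inv_hom_id_assoc]
  rfl

/-- A functor embedded as the kernel of two functors preserving colimits. -/
theorem preserves_of_ker {T T₁ T₂ : ModuleCat.{u} A ⥤ ModuleCat.{u} A} (β : T₁ ⟶ T₂) (d : T ⟶ T₁)
    (hd : ∀ N, Function.Injective (d.app N)) (he : ∀ N, Function.Exact (d.app N) (β.app N))
    [PreservesColimitsOfShape J T₁] [PreservesColimitsOfShape J T₂] : PreservesColimitsOfShape J T := by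
  refine ⟨fun {D} => ⟨fun {t} ht => ⟨?_⟩⟩⟩
  have h₁ := isColimitOfPreserves T₁ ht
  have h₂ := isColimitOfPreserves T₂ ht
  refine isColimitOfReflects (forget (ModuleCat.{u} A)) (Types.FilteredColimit.isColimitOf' _ _ ?_ ?_)
  · intro z
    obtain ⟨j, y, hy⟩ := Concrete.isColimit_exists_rep _ h₁ (d.app t.pt z)
    have h0 : (T₂.mapCocone t).ι.app j (β.app (D.obj j) y) = (T₂.mapCocone t).ι.app j 0 := by
      show T₂.map (t.ι.app j) (β.app (D.obj j) y) = T₂.map (t.ι.app j) 0
      rw [map_zero, ← ConcreteCategory.comp_apply, ← β.naturality, ConcreteCategory.comp_apply]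
      exact (congrArg (β.app t.pt) hy).trans ((he t.pt).apply_apply_eq_zero z)
    obtain ⟨k, f, g, hfg⟩ := (Concrete.isColimit_rep_eq_iff_exists _ h₂ _ _).1 h0
    have hk : β.app (D.obj k) (T₁.map (D.map f) y) = 0 := by
      rw [← ConcreteCategory.comp_apply, β.naturality, ConcreteCategory.comp_apply]
      exact hfg.trans (map_zero (T₂.map (D.map g)).hom)
    obtain ⟨w, hw⟩ := (he (D.obj k) _).1 hk
    refine ⟨k, w, hd t.pt ?_⟩
    show d.app t.pt z = d.app t.pt (T.map (t.ι.app k) w)
    rw [← ConcreteCategory.comp_apply (T.map (t.ι.app k))]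
    erw [d.naturality (t.ι.app k)]
    rw [ConcreteCategory.comp_apply, hw, ← ConcreteCategory.comp_apply, ← Functor.map_comp]
    erw [t.w f]
    exact hy.symm
  · intro j a b hab
    have h := congrArg (d.app t.pt) hab
    have h' : (T₁.mapCocone t).ι.app j (d.app (D.obj j) a) = (T₁.mapCocone t).ι.app j (d.app (D.obj j) b) := by
      show T₁.map (t.ι.app j) _ = T₁.map (t.ι.app j) _
      rw [← ConcreteCategory.comp_apply, ← ConcreteCategory.comp_apply, ← d.naturality]
      exact h
    obtain ⟨k, f, g, hfg⟩ := (Concrete.isColimit_rep_eq_iff_exists _ h₁ _ _).1 h'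
    refine ⟨IsFiltered.coeq f g, f ≫ IsFiltered.coeqHom f g, hd _ ?_⟩
    show d.app _ (T.map (D.map (f ≫ IsFiltered.coeqHom f g)) a) = d.app _ (T.map (D.map (f ≫ IsFiltered.coeqHom f g)) b)
    rw [← ConcreteCategory.comp_apply, ← ConcreteCategory.comp_apply, d.naturality, ConcreteCategory.comp_apply,
      ConcreteCategory.comp_apply]
    conv_rhs => rw [IsFiltered.coeq_condition f g]
    rw [D.map_comp, D.map_comp, T₁.map_comp, T₁.map_comp, ConcreteCategory.comp_apply, ConcreteCategory.comp_apply]
    exact congrArg (T₁.map (D.map (IsFiltered.coeqHom f g))) hfg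

section Shift

variable {K F M : ModuleCat.{u} A} (i : K ⟶ F) (π : F ⟶ M) (hz : i ≫ π = 0)

/-- The short complex `K ⊗ C → F ⊗ C → M ⊗ C`. -/
noncomputable def seqC (C : ChainComplex (ModuleCat.{u} A) ℕ) :
    ShortComplex (ChainComplex (ModuleCat.{u} A) ℕ) :=
  ShortComplex.mk ((tenC C).map i) ((tenC C).map π) (by
    rw [← Functor.map_comp, hz]
    refine HomologicalComplex.hom_ext _ _ fun k => ?_
    exact MonoidalPreadditive.zero_whiskerRight)

theorem shortExact_seqC (hi : Function.Injective i) (he : Function.Exact i π) (hπ : Function.Surjective π)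
    {N : ModuleCat.{u} A} (Q : ProjectiveResolution N) : (seqC i π hz Q.complex).ShortExact := by
  refine shortExact_of_degreewise_shortExact _ fun k => ?_
  haveI : Module.Projective A (Q.complex.X k) := (IsProjective.iff_projective _).2 (Q.projective k)
  exact
    { exact := (ShortComplex.ShortExact.moduleCat_exact_iff_function_exact _).2 (rTensor_exact (Q.complex.X k) he hπ)
      mono_f := (ModuleCat.mono_iff_injective _).2 (Module.Flat.rTensor_preserves_injective_linearMap i.hom hi)
      epi_g := (ModuleCat.epi_iff_surjective _).2 (LinearMap.rTensor_surjective (Q.complex.X k) hπ) }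

theorem isZero_homology_flat [Module.Flat A F] {N : ModuleCat.{u} A} (Q : ProjectiveResolution N) (p : ℕ) :
    IsZero (((tenC Q.complex).obj F).homology (p + 1)) := by
  rw [← exactAt_iff_isZero_homology, exactAt_iff' _ (p + 2) (p + 1) p (by simp) (by simp),
    ShortComplex.ShortExact.moduleCat_exact_iff_function_exact]
  have hk := Q.complex_exactAt_succ p
  rw [exactAt_iff' _ (p + 2) (p + 1) p (by simp) (by simp),
    ShortComplex.ShortExact.moduleCat_exact_iff_function_exact] at hk
  exact Module.Flat.lTensor_exact F hk

end Shift

theorem tor_obj (p : ℕ) : ∀ M : ModuleCat.{u} A,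
    PreservesColimitsOfShape J ((CategoryTheory.Tor (ModuleCat.{u} A) p).obj M) := by
  induction p with
  | zero =>
    intro M
    haveI := preserves_tensorLeft (J := J) M
    haveI : PreservesFiniteColimits (tensorLeft M) :=
      haveI : PreservesColimitsOfSize.{u, u} (tensorRight M) :=
        inferInstanceAs (PreservesColimitsOfSize.{u, u} ((DRingKFlat.tB A).flip.obj M))
      haveI : PreservesColimitsOfSize.{u, u} (tensorLeft M) :=
        preservesColimits_of_natIso (BraidedCategory.tensorLeftIsoTensorRight (C := ModuleCat.{u} A) M).symm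
      PreservesColimitsOfSize.preservesFiniteColimits _
    exact preservesColimitsOfShape_of_natIso ((tensorLeft M).leftDerivedZeroIsoSelf).symm
  | succ p ih =>
    intro M
    let F : ModuleCat.{u} A := ModuleCat.of A (M →₀ A)
    let π : F ⟶ M := ModuleCat.ofHom (Finsupp.linearCombination A (id : M → M))
    let K : ModuleCat.{u} A := ModuleCat.of A (LinearMap.ker π.hom)
    let i : K ⟶ F := ModuleCat.ofHom (LinearMap.ker π.hom).subtype
    have hi : Function.Injective i := Subtype.val_injective
    have he : Function.Exact i π := LinearMap.exact_subtype_ker_map π.hom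
    have hπ : Function.Surjective π := fun m => ⟨Finsupp.single m 1, (Finsupp.linearCombination_single A (v := id) _ _).trans (one_smul A m)⟩
    have hz : i ≫ π = 0 := ModuleCat.hom_ext (LinearMap.ext fun x => x.2)
    haveI := ih K
    haveI := ih F
    let T : ℕ → ModuleCat.{u} A → ModuleCat.{u} A ⥤ ModuleCat.{u} A := fun n X =>
      (CategoryTheory.Tor (ModuleCat.{u} A) n).obj X
    let e : ∀ (n : ℕ) (X N : ModuleCat.{u} A), (T n X).obj N ≅ ((tenC (projectiveResolution N).complex).obj X).homology n :=
      fun n X N => (projectiveResolution N).isoLeftDerivedObj (tensorLeft X) n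
    have hrel : (ComplexShape.down ℕ).Rel (p + 1) p := rfl
    let d : T (p + 1) M ⟶ T p K :=
      { app := fun N => (e (p + 1) M N).hom ≫
          (shortExact_seqC i π hz hi he hπ (projectiveResolution N)).δ (p + 1) p hrel ≫ (e p K N).inv
        naturality := fun N N' f => by
          let g := ProjectiveResolution.lift f (projectiveResolution N) (projectiveResolution N')
          have hg := ProjectiveResolution.lift_commutes_zero f (projectiveResolution N) (projectiveResolution N')
          let φ : seqC i π hz (projectiveResolution N).complex ⟶ seqC i π hz (projectiveResolution N').complex :=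
            ShortComplex.homMk (((tensorLeft K).mapHomologicalComplex _).map g)
              (((tensorLeft F).mapHomologicalComplex _).map g) (((tensorLeft M).mapHomologicalComplex _).map g)
              (HomologicalComplex.hom_ext _ _ fun k => (((curriedTensor (ModuleCat.{u} A)).map i).naturality (g.f k)))
              (HomologicalComplex.hom_ext _ _ fun k => (((curriedTensor (ModuleCat.{u} A)).map π).naturality (g.f k)))
          have h₃ := ProjectiveResolution.isoLeftDerivedObj_hom_naturality f (projectiveResolution N)
            (projectiveResolution N') g hg (tensorLeft M) (p + 1)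
          have h₁ := ProjectiveResolution.isoLeftDerivedObj_inv_naturality f (projectiveResolution N)
            (projectiveResolution N') g hg (tensorLeft K) p
          have hδ := HomologySequence.δ_naturality φ (shortExact_seqC i π hz hi he hπ (projectiveResolution N))
            (shortExact_seqC i π hz hi he hπ (projectiveResolution N')) (p + 1) p hrel
          simp only [Category.assoc]
          refine (reassoc_of% h₃) _ |>.trans ?_
          refine congrArg ((e (p + 1) M N).hom ≫ ·) ?_
          refine Eq.trans ?_ (congrArg (_ ≫ ·) h₁.symm)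
          exact (reassoc_of% hδ.symm) _ }
    let β : T p K ⟶ T p F := (CategoryTheory.Tor (ModuleCat.{u} A) p).map i
    refine preserves_of_ker β d (fun N => ?_) fun N => ?_
    · have hS := shortExact_seqC i π hz hi he hπ (projectiveResolution N)
      haveI : Module.Flat A F := inferInstanceAs (Module.Flat A (M →₀ A))
      haveI := (hS.homology_exact₃ (p + 1) p hrel).mono_g
        ((isZero_homology_flat (F := F) (projectiveResolution N) p).eq_of_src _ _)
      have hm : Mono (d.app N) := inferInstanceAs (Mono (_ ≫ hS.δ (p + 1) p hrel ≫ _))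
      exact (ModuleCat.mono_iff_injective _).1 hm
    · have hS := shortExact_seqC i π hz hi he hπ (projectiveResolution N)
      have hex := (ShortComplex.ShortExact.moduleCat_exact_iff_function_exact _).1 (hS.homology_exact₁ (p + 1) p hrel)
      have hβ : β.app N = (e p K N).hom ≫ homologyMap ((tenC (projectiveResolution N).complex).map i) p ≫
          (e p F N).inv :=
        ProjectiveResolution.leftDerived_app_eq (F := tensorLeft K) (G := tensorLeft F)
          ((curriedTensor (ModuleCat.{u} A)).map i) (projectiveResolution N) p
      intro x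
      rw [hβ]
      show (e p F N).inv (homologyMap ((tenC (projectiveResolution N).complex).map i) p ((e p K N).hom x)) = 0 ↔ _
      refine Iff.trans (map_eq_zero_iff (e p F N).inv.hom (e p F N).symm.toLinearEquiv.injective) ?_
      refine (hex ((e p K N).hom x)).trans ⟨?_, ?_⟩
      · rintro ⟨y, hy⟩
        refine ⟨(e (p + 1) M N).inv y, ?_⟩
        show (e p K N).inv (hS.δ (p + 1) p hrel ((e (p + 1) M N).hom ((e (p + 1) M N).inv y))) = x
        rw [Iso.inv_hom_id_apply]
        exact (congrArg (e p K N).inv hy).trans (Iso.hom_inv_id_apply _ _)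
      · rintro ⟨y, rfl⟩
        exact ⟨(e (p + 1) M N).hom y, (Iso.inv_hom_id_apply (e p K N) _).symm⟩

end Groth.Agent.HTorBC
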